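import Groth.Agent.H12Pic.NormTrivial
import Groth.Agent.H22Alg.CycBasic
import Groth.Agent.H11Ample.Converse

/-!
# Connectedness of a finite locally free cover killing a torsion line bundle
-/

set_option autoImplicit false
set_option linter.style.haveILetI false
set_option linter.unusedSectionVars false

noncomputable section

universe u

open CategoryTheory CategoryTheory.Limits AlgebraicGeometry TopologicalSpace Opposite

namespace Groth.Agent.H12Pic.CyclicCover

open Groth.Agent.H22Alg.FiniteDegree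

variable {P X : Scheme.{u}} (π : P ⟶ X)

theorem residueDegree_ι (U : P.Opens) (z : U.toScheme) : U.ι.residueDegree z = 1 := by
  simp only [Scheme.Hom.residueDegree]
  letI := (U.ι.residueFieldMap z).hom.toAlgebra
  have hb : Function.Bijective (algebraMap (P.residueField (U.ι z)) (U.toScheme.residueField z)) :=
    ConcreteCategory.bijective_of_isIso (U.ι.residueFieldMap z)
  rw [← Module.finrank_self (P.residueField (U.ι z))]
  exact ((LinearEquiv.ofBijective (Algebra.linearMap _ _) hb).finrank_eq).symm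

theorem mult_comp_openImmersion {Q : Scheme.{u}} (i : Q ⟶ P) [IsOpenImmersion i] (z : Q) :
    mult (i ≫ π) z = mult π (i z) := by
  let e := (asIso (i.stalkMap z)).commRingCatIsoToRingEquiv
  have h : ((i ≫ π).stalkMap z).hom = (e.toRingHom.comp (π.stalkMap (i z)).hom) := by
    rw [Scheme.Hom.stalkMap_comp]; rfl
  have hI : Ideal.map ((i ≫ π).stalkMap z).hom (IsLocalRing.maximalIdeal (X.presheaf.stalk (π (i z)))) =
      Ideal.map e.toRingHom (Ideal.map (π.stalkMap (i z)).hom
        (IsLocalRing.maximalIdeal (X.presheaf.stalk (π (i z))))) := by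
    rw [Ideal.map_map]
    exact congrArg (fun g => Ideal.map g (IsLocalRing.maximalIdeal (X.presheaf.stalk (π (i z))))) h
  exact congrArg ENat.toNat
    ((congrArg (fun J => Module.length (Q.presheaf.stalk z) (Q.presheaf.stalk z ⧸ J)) hI).trans
      (length_quot_congr e _))

theorem mult_ι (U : P.Opens) (z : U.toScheme) : mult (U.ι ≫ π) z = mult π z.1 :=
  mult_comp_openImmersion π U.ι z

/-- The rank is additive on a decomposition into two clopens. -/
theorem finrank_add [IsFinite π] [Flat π] (U U' : P.Opens) (hdis : U ⊓ U' = ⊥) (hcov : U ⊔ U' = ⊤)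
    [IsFinite (U.ι ≫ π)] [IsFinite (U'.ι ≫ π)] (y : X) :
    (U.ι ≫ π).finrank y + (U'.ι ≫ π).finrank y = π.finrank y := by
  have key : ∀ (W : P.Opens), ∑ᶠ x ∈ (W.ι ≫ π) ⁻¹' {y}, mult (W.ι ≫ π) x * (W.ι ≫ π).residueDegree x =
      ∑ᶠ x ∈ π ⁻¹' {y} ∩ (W : Set P), mult π x * π.residueDegree x := by
    intro W
    refine finsum_mem_eq_of_bijOn (fun x => x.1) ⟨fun x hx => ⟨hx, x.2⟩, fun a _ b _ h => Subtype.ext h,
      fun x hx => ⟨⟨x, hx.2⟩, hx.1, rfl⟩⟩ fun x _ => ?_
    rw [mult_ι, Groth.Agent.H22Alg.CycBasic.residueDegree_comp, residueDegree_ι, mul_one]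
    rfl
  have hfin : (π ⁻¹' {y}).Finite := π.finite_preimage_singleton y
  have hsplit : π ⁻¹' {y} = (π ⁻¹' {y} ∩ (U : Set P)) ∪ (π ⁻¹' {y} ∩ (U' : Set P)) := by
    rw [← Set.inter_union_distrib_left, ← Opens.coe_sup, hcov, Opens.coe_top, Set.inter_univ]
  rw [← finsum_fibre_eq_finrank, ← finsum_fibre_eq_finrank, ← finsum_fibre_eq_finrank π y, key, key]
  conv_rhs => rw [hsplit]
  refine (finsum_mem_union ?_ (hfin.inter_of_left _) (hfin.inter_of_left _)).symm
  rw [Set.disjoint_left]
  rintro x ⟨-, hx⟩ ⟨-, hx'⟩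
  exact (show x ∈ (⊥ : P.Opens) from hdis ▸ ⟨hx, hx'⟩).elim

/-- A finite locally free cover of degree `d` killing a line bundle of order `d` is connected. -/
theorem connectedSpace {d : ℕ} (hd : 0 < d) [IrreducibleSpace X] (hπ : Mor2.IsFinLocFreeOfDeg d π)
    (L : X.Modules) (hL : PicF.IsInvertible L)
    (θ : (Scheme.Modules.pullback π).obj L ≅ Coh.structureModule P)
    (hmin : ∀ i : ℕ, 0 < i → i < d → IsEmpty (CohB1.tensorPow L i ≅ Coh.structureModule X)) :
    ConnectedSpace P := by
  haveI : IsFinite π := hπ.1.1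
  haveI : Flat π := hπ.1.2.1
  haveI : LocallyOfFinitePresentation π := hπ.1.2.2
  haveI : Nonempty P := by
    by_contra h
    obtain ⟨y⟩ := (inferInstance : Nonempty X)
    have := finsum_fibre_eq_finrank π y
    rw [hπ.2 y, Set.eq_empty_of_forall_notMem (s := π ⁻¹' {y}) fun x _ => h ⟨x⟩, finsum_mem_empty] at this
    omega
  haveI : PreconnectedSpace P := preconnectedSpace_iff_clopen.2 fun W hW => by
    by_contra hne
    push Not at hne
    obtain ⟨hne0, hneu⟩ := hne
    let U : P.Opens := ⟨W, hW.2⟩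
    let U' : P.Opens := ⟨Wᶜ, hW.1.isOpen_compl⟩
    have hfin : ∀ (V : P.Opens), IsClosed (V : Set P) → IsFinite (V.ι ≫ π) := fun V hV => by
      haveI : IsClosedImmersion V.ι := by
        refine IsClosedImmersion.of_isPreimmersion V.ι ?_
        rw [Scheme.Opens.range_ι]
        exact hV
      infer_instance
    haveI := hfin U hW.1
    haveI := hfin U' (show IsClosed (Wᶜ : Set P) from hW.2.isClosed_compl)
    have hdeg : ∀ (V : P.Opens), IsClosed (V : Set P) → (V : Set P).Nonempty → ∀ y, d ≤ (V.ι ≫ π).finrank y := by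
      intro V hV hVne y
      haveI := hfin V hV
      haveI : LocallyOfFinitePresentation (V.ι ≫ π) := inferInstance
      haveI : Flat (V.ι ≫ π) := inferInstance
      have hr : ∀ z, (V.ι ≫ π).finrank z = (V.ι ≫ π).finrank y := fun z =>
        (Scheme.Hom.isLocallyConstant_finrank _).apply_eq_of_preconnectedSpace z y
      have h1 : 0 < (V.ι ≫ π).finrank y := by
        obtain ⟨z, hz⟩ := hVne
        have := (V.ι ≫ π).one_le_finrank_map ⟨z, hz⟩
        rw [hr] at this
        exact this
      by_contra hlt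
      push Not at hlt
      obtain ⟨e⟩ := tensorPow_trivial_of_pullback (V.ι ≫ π) _ ⟨⟨inferInstance, inferInstance, inferInstance⟩, hr⟩
        L hL ⟨((Scheme.Modules.pullbackComp V.ι π).app L).symm ≪≫
          (Scheme.Modules.pullback V.ι).mapIso θ ≪≫ PicLoc.pullbackStructureIso V.ι⟩
      exact (hmin _ h1 hlt).false e
    obtain ⟨y⟩ := (inferInstance : Nonempty X)
    have h := finrank_add π U U' (Opens.ext (by simp [U, U'])) (Opens.ext (by simp [U, U'])) y
    have hU := hdeg U hW.1 hne0 y
    have hU' := hdeg U' hW.2.isClosed_compl (Set.nonempty_compl.2 hneu) y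
    rw [hπ.2 y] at h
    omega
  exact ⟨inferInstance⟩

end Groth.Agent.H12Pic.CyclicCover
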