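import Mathlib

/-!
# The algebra `R[t]/(t^d - c)` of a cyclic cover
-/

set_option autoImplicit false
set_option linter.style.haveILetI false

noncomputable section

universe u

open CategoryTheory CategoryTheory.Limits Polynomial AlgebraicGeometry

namespace Groth.Agent.H12Pic.CyclicCover

variable {R R' R'' : Type u} [CommRing R] [CommRing R'] [CommRing R'']

/-- The algebra `R[t]/(t^d - c)`. -/
abbrev Alg (c : R) (d : ℕ) : Type u := AdjoinRoot (X ^ d - C c : R[X])

theorem root_pow (c : R) (d : ℕ) : (AdjoinRoot.root (X ^ d - C c)) ^ d = AdjoinRoot.of _ c := by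
  have h := AdjoinRoot.eval₂_root (X ^ d - C c)
  rw [eval₂_sub, eval₂_X_pow, eval₂_C, sub_eq_zero] at h
  exact h

theorem hom_ext {c : R} {d : ℕ} {S : Type u} [CommRing S] {f g : Alg c d →+* S}
    (h : ∀ r, f (AdjoinRoot.of _ r) = g (AdjoinRoot.of _ r))
    (hr : f (AdjoinRoot.root _) = g (AdjoinRoot.root _)) : f = g := by
  refine RingHom.ext fun x => AdjoinRoot.induction_on _ x fun p => ?_
  induction p using Polynomial.induction_on' with
  | add p q hp hq => rw [map_add, map_add, map_add, hp, hq]
  | monomial n r =>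
    rw [← C_mul_X_pow_eq_monomial, map_mul, map_pow, map_mul, map_mul, map_pow, map_pow]
    erw [h r, hr]
    rfl

/-- The map of cyclic algebras along `φ` which sends `t` to `a t`. -/
def change (φ : R →+* R') {c : R} {c' a : R'} {d : ℕ} (h : φ c = a ^ d * c') : Alg c d →+* Alg c' d :=
  AdjoinRoot.lift ((AdjoinRoot.of _).comp φ) (AdjoinRoot.of _ a * AdjoinRoot.root _) (by
    rw [eval₂_sub, eval₂_X_pow, eval₂_C, mul_pow, root_pow, ← map_pow, ← map_mul, RingHom.comp_apply, h,
      sub_self])

theorem change_of (φ : R →+* R') {c : R} {c' a : R'} {d : ℕ} (h : φ c = a ^ d * c') (r : R) :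
    change φ h (AdjoinRoot.of _ r) = AdjoinRoot.of _ (φ r) := AdjoinRoot.lift_of _

theorem change_root (φ : R →+* R') {c : R} {c' a : R'} {d : ℕ} (h : φ c = a ^ d * c') :
    change φ h (AdjoinRoot.root _) = AdjoinRoot.of _ a * AdjoinRoot.root _ := AdjoinRoot.lift_root _

theorem change_change (φ : R →+* R') (ψ : R' →+* R'') {c : R} {c' a : R'} {c'' a' : R''} {d : ℕ}
    (h : φ c = a ^ d * c') (h' : ψ c' = a' ^ d * c'') {χ : R →+* R''} (hχ : χ = ψ.comp φ) {b : R''}
    (hb : b = ψ a * a') (h'' : χ c = b ^ d * c'') : change χ h'' = (change ψ h').comp (change φ h) := by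
  subst hχ hb
  refine hom_ext (fun r => ?_) ?_
  · rw [RingHom.comp_apply, change_of, change_of, change_of]; rfl
  · rw [RingHom.comp_apply, change_root φ h, change_root, map_mul, map_mul (change ψ h'), change_of, change_root, mul_assoc]

theorem change_id {c a : R} {d : ℕ} (ha : a = 1) {φ : R →+* R} (hφ : φ = RingHom.id R) (h : φ c = a ^ d * c) :
    change φ h = RingHom.id _ := by
  subst ha hφ
  refine hom_ext (fun r => ?_) ?_
  · rw [change_of]; rfl
  · rw [change_root, map_one, one_mul]; rfl

/-- Changing the ring is a pushout. -/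
theorem isPushout_change (φ : R →+* R') {c : R} {c' a : R'} {d : ℕ} (h : φ c = a ^ d * c') (ha : IsUnit a) :
    IsPushout (CommRingCat.ofHom (AdjoinRoot.of (X ^ d - C c))) (CommRingCat.ofHom φ)
      (CommRingCat.ofHom (change φ h)) (CommRingCat.ofHom (AdjoinRoot.of (X ^ d - C c'))) := by
  obtain ⟨b, hba⟩ := ha.exists_left_inv
  have hw : CommRingCat.ofHom (AdjoinRoot.of (X ^ d - C c)) ≫ CommRingCat.ofHom (change φ h) =
      CommRingCat.ofHom φ ≫ CommRingCat.ofHom (AdjoinRoot.of (X ^ d - C c')) := by
    ext r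
    exact change_of φ h r
  refine ⟨⟨hw⟩, ⟨PushoutCocone.IsColimit.mk hw
    (fun s => CommRingCat.ofHom (AdjoinRoot.lift s.inr.hom (s.inr.hom b * s.inl.hom (AdjoinRoot.root _))
      (by
        have hr : ∀ r, s.inr.hom (φ r) = s.inl.hom (AdjoinRoot.of _ r) := fun r =>
          (ConcreteCategory.congr_hom s.condition r).symm
        rw [eval₂_sub, eval₂_X_pow, eval₂_C, mul_pow, ← map_pow, ← map_pow, root_pow, ← hr, ← map_mul, h,
          ← mul_assoc, ← mul_pow, hba, one_pow, one_mul, sub_self])))
    (fun s => ?_) (fun s => ?_) (fun s m h1 h2 => ?_)⟩⟩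
  · refine CommRingCat.hom_ext (hom_ext (fun r => ?_) ?_)
    · simp only [CommRingCat.hom_comp, RingHom.comp_apply, CommRingCat.hom_ofHom]
      rw [change_of, AdjoinRoot.lift_of]
      exact (ConcreteCategory.congr_hom s.condition r).symm
    · simp only [CommRingCat.hom_comp, RingHom.comp_apply, CommRingCat.hom_ofHom]
      rw [change_root, map_mul, AdjoinRoot.lift_of, AdjoinRoot.lift_root, ← mul_assoc, ← map_mul, mul_comm a,
        hba, map_one, one_mul]
  · ext r
    simp
  · refine CommRingCat.hom_ext (hom_ext (fun r => ?_) ?_)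
    · refine (ConcreteCategory.congr_hom h2 r).trans ?_
      simp
    · have e1 := ConcreteCategory.congr_hom h1 (AdjoinRoot.root _)
      have e2 := ConcreteCategory.congr_hom h2 b
      change m.hom (change φ h (AdjoinRoot.root _)) = s.inl.hom (AdjoinRoot.root _) at e1
      change m.hom (AdjoinRoot.of _ b) = s.inr.hom b at e2
      rw [change_root, map_mul] at e1
      simp only [CommRingCat.hom_ofHom, AdjoinRoot.lift_root]
      rw [← e1, ← e2, ← mul_assoc, ← map_mul, ← map_mul, ← map_mul (AdjoinRoot.of _), hba, map_one, one_mul]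

variable (c : R) {d : ℕ} (hd : 0 < d)

include hd

theorem finite : Module.Finite R (Alg c d) :=
  (AdjoinRoot.powerBasis' (monic_X_pow_sub_C c hd.ne')).finite

theorem free : Module.Free R (Alg c d) :=
  (monic_X_pow_sub_C c hd.ne').free_adjoinRoot

theorem flat : Module.Flat R (Alg c d) :=
  haveI := free c hd
  Module.Flat.of_free

theorem finrank [Nontrivial R] : Module.finrank R (Alg c d) = d := by
  rw [PowerBasis.finrank (AdjoinRoot.powerBasis' (monic_X_pow_sub_C c hd.ne')), AdjoinRoot.powerBasis'_dim,
    natDegree_X_pow_sub_C]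

theorem nontrivial [Nontrivial R] : Nontrivial (Alg c d) :=
  Module.nontrivial_of_finrank_eq_succ (R := R) (n := d - 1) (by rw [finrank c hd]; omega)

theorem finitePresentation : Algebra.FinitePresentation R (Alg c d) := by
  haveI := finite c hd
  haveI := free c hd
  haveI : Module.FinitePresentation R (Alg c d) := Module.finitePresentation_of_projective R (Alg c d)
  exact Algebra.FinitePresentation.of_finitePresentation R _

theorem isUnit_root {b : R} (hb : b * c = 1) : IsUnit (AdjoinRoot.root (X ^ d - C c)) := by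
  refine (isUnit_pow_iff hd.ne').1 ?_
  rw [root_pow]
  exact (IsUnit.of_mul_eq_one_right b hb).map _

/-- If `d` and `c` are units the algebra is étale. -/
theorem etale (hu : IsUnit (d : R)) {b : R} (hb : b * c = 1) : Algebra.Etale R (Alg c d) := by
  obtain ⟨e, he⟩ := hu.exists_left_inv
  let P : StandardEtalePair R :=
    { f := X ^ d - C c
      monic_f := monic_X_pow_sub_C c hd.ne'
      g := 1
      cond := ⟨C (b * e) * X, -C b, 1, by
        obtain ⟨n, rfl⟩ := Nat.exists_eq_succ_of_ne_zero hd.ne'
        have h1 : (C e : R[X]) * C ((n.succ : ℕ) : R) = 1 := by rw [← map_mul, he, map_one]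
        have h2 : (C b : R[X]) * C c = 1 := by rw [← map_mul, hb, map_one]
        rw [derivative_sub, derivative_C, sub_zero, derivative_X_pow, Nat.succ_sub_one, pow_one, map_mul,
          pow_succ]
        linear_combination (C b * X ^ n * X) * h1 + h2⟩ }
  have hg : IsUnit (AdjoinRoot.mk P.f P.g) := by
    rw [show P.g = 1 from rfl, map_one]; exact isUnit_one
  exact Algebra.Etale.of_equiv (P.equivAwayAdjoinRoot.trans
    ((IsLocalization.atUnit (AdjoinRoot P.f) (Localization.Away (AdjoinRoot.mk P.f P.g))
      (AdjoinRoot.mk P.f P.g) hg).symm.restrictScalars R))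

end Groth.Agent.H12Pic.CyclicCover
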