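import Groth.Agent.H12Pic.CyclicCover.Algebra
import Groth.Agent.H12Pic.InvDesc.Trivial
import Groth.Agent.H11Ample.Ample
import Groth.Agent.H7Flat.PowerRoot

/-!
# The cyclic cover attached to a trivialisation of a power of a line bundle
-/

set_option autoImplicit false
set_option linter.style.haveILetI false
set_option linter.unusedSectionVars false

noncomputable section

universe u

open CategoryTheory CategoryTheory.Limits AlgebraicGeometry TopologicalSpace Opposite

namespace Groth.Agent.H12Pic.CyclicCover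

open Groth.Agent.H11Tilde Groth.Agent.H11Ample Groth.Agent.H12Pic.InvDesc

variable {X : Scheme.{u}} (L : X.Modules)

/-- An affine open with a generator of `L`. -/
structure Chart where
  U : X.Opens
  affine : IsAffineOpen U
  gen : Γ(L, U)
  isGen : IsGen L gen

variable {L}

instance : Preorder (Chart L) := Preorder.lift Chart.U

theorem exists_chart (hL : PicF.IsInvertible L) (x : X) {O : X.Opens} (hx : x ∈ O) :
    ∃ j : Chart L, x ∈ j.U ∧ j.U ≤ O := by
  obtain ⟨V, e, hxV, he⟩ := H11Ample.exists_gen hL x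
  obtain ⟨W, hW, hxW, hWle⟩ := exists_isAffineOpen_mem_and_subset (U := V ⊓ O) (x := x) ⟨hxV, hx⟩
  exact ⟨⟨W, hW, _, he.res (hWle.trans inf_le_left)⟩, hxW, hWle.trans inf_le_right⟩

/-- The directed cover by the charts. -/
@[simps I₀ X f]
def cov (hL : PicF.IsInvertible L) : X.OpenCover where
  I₀ := ULift.{u} (Chart L)
  X j := j.down.U
  f j := j.down.U.ι
  mem₀ := by
    rw [Scheme.presieve₀_mem_precoverage_iff]
    refine ⟨fun x => ?_, inferInstance⟩
    obtain ⟨j, hj, -⟩ := exists_chart hL x (O := ⊤) trivial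
    exact ⟨⟨j⟩, ⟨x, hj⟩, rfl⟩

section

variable {d : ℕ} (φ : CohB1.tensorPow L d ≅ Coh.structureModule X)

/-- The value of `φ` at the power of the generator. -/
def bb (j : Chart L) : Γ(X, j.U) := φ.hom.app _ (spow j.gen d)

theorem isUnit_bb (j : Chart L) : IsUnit (bb φ j) := isUnit_of_isGen (IsGen.map_iso φ (isGen_spow j.isGen d))

/-- The inverse of `bb`. -/
def cc (j : Chart L) : Γ(X, j.U) := (isUnit_bb φ j).exists_left_inv.choose

theorem cc_mul_bb (j : Chart L) : cc φ j * bb φ j = 1 := (isUnit_bb φ j).exists_left_inv.choose_spec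

theorem bb_mul_cc (j : Chart L) : bb φ j * cc φ j = 1 := (mul_comm _ _).trans (cc_mul_bb φ j)

/-- The transition function between two charts. -/
def aa {i j : Chart L} (h : i.U ≤ j.U) : Γ(X, i.U) :=
  (H11Ample.exists_coeff (j.isGen.res h) i.gen).choose

theorem aa_spec {i j : Chart L} (h : i.U ≤ j.U) :
    i.gen = aa h • L.presheaf.map (homOfLE h).op j.gen :=
  (H11Ample.exists_coeff (j.isGen.res h) i.gen).choose_spec

theorem coeff_unique {i j : Chart L} (h : i.U ≤ j.U) {a : Γ(X, i.U)}
    (ha : i.gen = a • L.presheaf.map (homOfLE h).op j.gen) : a = aa h := by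
  have e := (ha.symm.trans (aa_spec h))
  rw [← H10Coh.mres_self L le_rfl (L.presheaf.map (homOfLE h).op j.gen)] at e
  exact ((j.isGen.res h).bijective le_rfl).1 e

theorem isUnit_aa {i j : Chart L} (h : i.U ≤ j.U) : IsUnit (aa h) :=
  H7Flat.PowerRoot.isUnit_coeff (j.isGen.res h) i.isGen (aa_spec h)

theorem aa_self (j : Chart L) (h : j.U ≤ j.U) : aa (i := j) (j := j) h = 1 :=
  (coeff_unique h (by rw [one_smul, H10Coh.mres_self])).symm

theorem aa_comp {i j k : Chart L} (h : i.U ≤ j.U) (h' : j.U ≤ k.U) :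
    aa (h.trans h') = X.presheaf.map (homOfLE h).op (aa h') * aa h := by
  refine (coeff_unique _ ?_).symm
  have e := congrArg (L.presheaf.map (homOfLE h).op) (aa_spec h')
  rw [Scheme.Modules.map_smul, H10Coh.mres_mres] at e
  rw [mul_comm, mul_smul, ← e]
  exact aa_spec h

theorem cc_res {i j : Chart L} (h : i.U ≤ j.U) :
    X.presheaf.map (homOfLE h).op (cc φ j) = aa h ^ d * cc φ i := by
  have hb : bb φ i = aa h ^ d * X.presheaf.map (homOfLE h).op (bb φ j) := by
    have e := congrArg (fun s => φ.hom.app _ (spow s d)) (aa_spec h)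
    beta_reduce at e
    rw [spow_smul, Scheme.Modules.Hom.app_smul, ← spow_res, H11Tilde.app_map_apply] at e
    exact e
  have h1 := congrArg (X.presheaf.map (homOfLE h).op) (cc_mul_bb φ j)
  rw [map_mul, map_one] at h1
  have h2 := cc_mul_bb φ i
  rw [hb] at h2
  linear_combination (X.presheaf.map (homOfLE h).op (cc φ j)) * h2.symm + (cc φ i * aa h ^ d) * h1

/-- The ring of a chart. -/
abbrev ringAt (j : Chart L) : CommRingCat.{u} := CommRingCat.of (Alg (cc φ j) d)

/-- The structure map of the ring of a chart. -/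
abbrev strAt (j : Chart L) : Γ(X, j.U) ⟶ ringAt φ j := CommRingCat.ofHom (AdjoinRoot.of _)

/-- The transition map. -/
def tr {i j : Chart L} (h : i.U ≤ j.U) : ringAt φ j ⟶ ringAt φ i :=
  CommRingCat.ofHom (change (X.presheaf.map (homOfLE h).op).hom (cc_res φ h))

theorem tr_self (j : Chart L) (h : j.U ≤ j.U) : tr φ (i := j) (j := j) h = 𝟙 _ := by
  refine CommRingCat.hom_ext (change_id (aa_self j h) ?_ (cc_res φ h))
  rw [Subsingleton.elim (homOfLE h).op (𝟙 _), CategoryTheory.Functor.map_id]
  rfl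

theorem tr_comp {i j k : Chart L} (h : i.U ≤ j.U) (h' : j.U ≤ k.U) :
    tr φ (h.trans h') = tr φ h' ≫ tr φ h :=
  CommRingCat.hom_ext (change_change _ _ (cc_res φ h') (cc_res φ h)
    (by rw [show (homOfLE (h.trans h')).op = (homOfLE h').op ≫ (homOfLE h).op from rfl,
      Functor.map_comp]; rfl) (aa_comp h h') (cc_res φ (h.trans h')))

variable (hL : PicF.IsInvertible L)

instance instPreorderCov : Preorder (cov hL).I₀ := Preorder.lift fun j : ULift.{u} (Chart L) => j.down

instance : Scheme.Cover.LocallyDirected (cov hL) :=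
  .ofIsBasisOpensRange (fun {i j} =>
    iff_of_eq (congrArg₂ (· ≤ ·) (Scheme.Opens.opensRange_ι i.down.U).symm (Scheme.Opens.opensRange_ι j.down.U).symm)) <| by
    refine Opens.isBasis_iff_nbhd.2 fun {O x} hx => ?_
    obtain ⟨j, hj, hle⟩ := exists_chart hL x hx
    exact ⟨j.U, ⟨⟨j⟩, Scheme.Opens.opensRange_ι _⟩, hj, hle⟩

/-- The glued pieces. -/
def pieces : (cov hL).I₀ ⥤ Scheme.{u} where
  obj j := Spec (ringAt φ j.down)
  map {i j} f := Spec.map (tr φ (leOfHom f : i.down.U ≤ j.down.U))
  map_id j := by rw [tr_self, Spec.map_id]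
  map_comp {i j k} f g := by rw [← Spec.map_comp, ← tr_comp]

/-- The maps to the charts. -/
def toChart (j : Chart L) : Spec (ringAt φ j) ⟶ j.U := Spec.map (strAt φ j) ≫ j.affine.isoSpec.inv

theorem toChart_ι (j : Chart L) : toChart φ j ≫ j.U.ι = Spec.map (strAt φ j) ≫ j.affine.fromSpec := by
  rw [toChart, Category.assoc, IsAffineOpen.isoSpec_inv_ι]

theorem sq {i j : Chart L} (h : i.U ≤ j.U) :
    IsPullback (Spec.map (tr φ h)) (toChart φ i) (toChart φ j) (X.homOfLE h) := by
  have s1 : IsPullback (Spec.map (tr φ h)) (Spec.map (strAt φ i)) (Spec.map (strAt φ j))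
      (Spec.map (X.presheaf.map (homOfLE h).op)) :=
    isPullback_SpecMap_of_isPushout _ _ _ _ (isPushout_change _ (cc_res φ h) (isUnit_aa h))
  have hsq : X.homOfLE h ≫ j.affine.isoSpec.hom =
      i.affine.isoSpec.hom ≫ Spec.map (X.presheaf.map (homOfLE h).op) := by
    rw [← cancel_mono j.affine.fromSpec, Category.assoc, Category.assoc,
      IsAffineOpen.map_fromSpec j.affine i.affine, ← IsAffineOpen.isoSpec_inv_ι, ← IsAffineOpen.isoSpec_inv_ι,
      Iso.hom_inv_id_assoc, Iso.hom_inv_id_assoc, Scheme.homOfLE_ι]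
  exact IsPullback.of_iso s1 (Iso.refl _) (Iso.refl _) i.affine.isoSpec.symm j.affine.isoSpec.symm
    (by simp) (by simp [toChart]) (by simp [toChart])
    (by rw [Iso.symm_hom, Iso.symm_hom, Iso.eq_inv_comp, ← Category.assoc, Iso.comp_inv_eq, hsq])

/-- The relative gluing datum. -/
def glueData : Scheme.Cover.RelativeGluingData (cov hL) where
  functor := pieces φ hL
  natTrans :=
    { app := fun j => toChart φ j.down
      naturality := fun i j f => by
        refine (cancel_mono j.down.U.ι).1 ?_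
        have := (sq φ (leOfHom f : i.down.U ≤ j.down.U)).w
        change (Spec.map _ ≫ toChart φ j.down) ≫ j.down.U.ι = (toChart φ i.down ≫ (cov hL).trans f) ≫ j.down.U.ι
        refine (congrArg (· ≫ j.down.U.ι) this).trans ((Category.assoc _ _ _).trans ?_)
        rw [Scheme.homOfLE_ι]
        exact (congrArg (toChart φ i.down ≫ ·) (Scheme.Cover.trans_map (cov hL) f).symm).trans
          (Category.assoc _ _ _).symm }
  equifibered := fun {i j} f => by
    have e : (cov hL).functorOfLocallyDirected.map f = X.homOfLE (leOfHom f : i.down.U ≤ j.down.U) :=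
      (cancel_mono j.down.U.ι).1 ((Scheme.Cover.trans_map (cov hL) f).trans (Scheme.homOfLE_ι X _).symm)
    rw [e]
    exact sq φ _

instance : Quiver.IsThin (cov hL).I₀ := fun _ _ => inferInstance

instance : Small.{u} (cov hL).I₀ := inferInstanceAs (Small.{u} (ULift.{u} (Chart L)))

/-- The cyclic cover. -/
def cover : Scheme.{u} := (glueData φ hL).glued

/-- The projection of the cyclic cover. -/
def proj : cover φ hL ⟶ X := (glueData φ hL).toBase

/-- A chart of the cyclic cover. -/
def incl (j : Chart L) : Spec (ringAt φ j) ⟶ cover φ hL := colimit.ι (glueData φ hL).functor ⟨j⟩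

theorem incl_proj (j : Chart L) : incl φ hL j ≫ proj φ hL = toChart φ j ≫ j.U.ι :=
  (glueData φ hL).ι_toBase ⟨j⟩

theorem isPullback_incl (j : Chart L) :
    IsPullback (incl φ hL j) (Spec.map (strAt φ j)) (proj φ hL) j.affine.fromSpec :=
  IsPullback.of_iso ((glueData φ hL).isPullback_natTrans_ι_toBase ⟨j⟩).flip (Iso.refl _) (Iso.refl _)
    j.affine.isoSpec (Iso.refl _) (by simp; rfl)
    (by
      change (Spec.map _ ≫ _) ≫ _ = 𝟙 _ ≫ _
      rw [Category.assoc, Iso.inv_hom_id, Category.comp_id]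
      exact (Category.id_comp _).symm) (by simp; rfl) (by
      change j.U.ι ≫ 𝟙 X = j.affine.isoSpec.hom ≫ j.affine.fromSpec
      rw [← IsAffineOpen.isoSpec_inv_ι, Iso.hom_inv_id_assoc, Category.comp_id])

theorem incl_comp {i j : Chart L} (h : i.U ≤ j.U) : Spec.map (tr φ h) ≫ incl φ hL j = incl φ hL i :=
  colimit.w (glueData φ hL).functor (homOfLE (show (⟨i⟩ : ULift.{u} (Chart L)) ≤ ⟨j⟩ from h) :
    (⟨i⟩ : (cov hL).I₀) ⟶ ⟨j⟩)

end

end Groth.Agent.H12Pic.CyclicCover
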