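import Groth.Agent.H12Pic.CyclicCover.Glue
import Groth.Agent.H12Pic.PTorsion

/-!
# Properties of the cyclic cover
-/

set_option autoImplicit false
set_option linter.style.haveILetI false
set_option linter.unusedSectionVars false

noncomputable section

universe u

open CategoryTheory CategoryTheory.Limits AlgebraicGeometry TopologicalSpace Opposite

namespace Groth.Agent.H12Pic.CyclicCover

open Groth.Agent.H11Tilde Groth.Agent.H11Ample Groth.Agent.H12Pic.InvDesc
open Groth.Agent.H12Pic.PTorsion (isGen_unit res_res nat)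

variable {X : Scheme.{u}} {L : X.Modules} {d : ℕ} (φ : CohB1.tensorPow L d ≅ Coh.structureModule X)
  (hL : PicF.IsInvertible L)

theorem iSup_charts (hL : PicF.IsInvertible L) : (⨆ j : ULift.{u} (Chart L), j.down.U) = ⊤ :=
  eq_top_iff.2 fun x _ => by
    obtain ⟨j, hj, -⟩ := exists_chart hL x (O := ⊤) trivial
    exact Opens.mem_iSup.2 ⟨⟨j⟩, hj⟩

/-- A property local on the base is checked on the charts. -/
theorem proj_mem (Q : MorphismProperty Scheme.{u}) [IsZariskiLocalAtTarget Q]
    (h : ∀ j : Chart L, Q (Spec.map (strAt φ j))) : Q (proj φ hL) := by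
  refine IsZariskiLocalAtTarget.of_iSup_eq_top (fun j : ULift.{u} (Chart L) => j.down.U) (iSup_charts hL)
    fun j => ?_
  have s₁ := isPullback_morphismRestrict (proj φ hL) j.down.U
  have s₂ := (glueData φ hL).isPullback_natTrans_ι_toBase j
  have e : Arrow.mk (proj φ hL ∣_ j.down.U) ≅ Arrow.mk (Spec.map (strAt φ j.down)) :=
    Arrow.isoMk (s₁.isoIsPullback _ _ s₂.flip.flip) j.down.affine.isoSpec (by
      change _ ≫ Spec.map (strAt φ j.down) = _
      have := s₁.isoIsPullback_hom_fst _ _ s₂.flip.flip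
      rw [← cancel_mono j.down.affine.isoSpec.inv, Category.assoc, Category.assoc, Iso.hom_inv_id,
        Category.comp_id]
      exact this)
  exact (Q.arrow_mk_iso_iff e).2 (h j.down)

variable (hd : 0 < d)
include hd

theorem isFinite_proj : IsFinite (proj φ hL) := proj_mem φ hL _ fun j => by
  haveI := finite (cc φ j) hd
  exact (IsFinite.SpecMap_iff _).2 (RingHom.finite_algebraMap.2 inferInstance)

theorem flat_proj : Flat (proj φ hL) := proj_mem φ hL _ fun j => by
  haveI := flat (cc φ j) hd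
  exact Flat.SpecMap_iff.2 (RingHom.flat_algebraMap_iff.2 inferInstance)

theorem lfp_proj : LocallyOfFinitePresentation (proj φ hL) := proj_mem φ hL _ fun j => by
  haveI := finitePresentation (cc φ j) hd
  exact (HasRingHomProperty.Spec_iff (P := @LocallyOfFinitePresentation)).2
    (RingHom.finitePresentation_algebraMap.2 inferInstance)

theorem finrank_proj (y : X) : (proj φ hL).finrank y = d := by
  haveI := isFinite_proj φ hL hd
  haveI := flat_proj φ hL hd
  obtain ⟨j, hj, -⟩ := exists_chart hL y (O := ⊤) trivial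
  haveI : Nontrivial Γ(X, j.U) :=
    PrimeSpectrum.nonempty_iff_nontrivial.1 ⟨j.affine.primeIdealOf ⟨y, hj⟩⟩
  haveI := finite (cc φ j) hd
  haveI := free (cc φ j) hd
  haveI := flat (cc φ j) hd
  have h := Scheme.Hom.finrank_of_isPullback _ _ _ _ (isPullback_incl φ hL j) (j.affine.primeIdealOf ⟨y, hj⟩)
  rw [j.affine.fromSpec_primeIdealOf] at h
  rw [← h]
  change (Spec.map (CommRingCat.ofHom (algebraMap Γ(X, j.U) (Alg (cc φ j) d)))).finrank _ = d
  rw [Scheme.Hom.finrank_SpecMap_algebraMap, Module.rankAtStalk_eq_finrank_of_free, Pi.natCast_apply,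
    Nat.cast_id, finrank (cc φ j) hd]

theorem isFinLocFreeOfDeg_proj : Mor2.IsFinLocFreeOfDeg d (proj φ hL) :=
  ⟨⟨isFinite_proj φ hL hd, flat_proj φ hL hd, lfp_proj φ hL hd⟩, finrank_proj φ hL hd⟩

theorem etale_proj (hu : IsUnit ((d : ℕ) : (Γ(X, ⊤) : Type u))) : Etale (proj φ hL) :=
  proj_mem φ hL @Etale fun j => by
    have hu' : IsUnit ((d : ℕ) : Γ(X, j.U)) := by
      have := hu.map (X.presheaf.map (homOfLE (le_top : j.U ≤ ⊤)).op).hom
      rwa [map_natCast] at this
    haveI := etale (cc φ j) hd hu' (bb_mul_cc φ j)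
    exact (HasRingHomProperty.Spec_iff (P := @Etale)).2 (RingHom.etale_algebraMap.2 inferInstance)

omit hd

theorem incl_preimage (j : Chart L) : (incl φ hL j) ⁻¹ᵁ proj φ hL ⁻¹ᵁ j.U = ⊤ := by
  rw [← Scheme.Hom.comp_preimage, incl_proj, Scheme.Hom.comp_preimage, j.U.ι_preimage_self,
    Scheme.Hom.preimage_top]

/-- Functions on the preimage of a chart as elements of its ring. -/
def toRing (j : Chart L) : Γ(cover φ hL, proj φ hL ⁻¹ᵁ j.U) →+* Alg (cc φ j) d :=
  ((incl φ hL j).appLE _ ⊤ (incl_preimage φ hL j).ge ≫ (Scheme.ΓSpecIso (ringAt φ j)).hom).hom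

instance (j : Chart L) : IsOpenImmersion (incl φ hL j) :=
  MorphismProperty.of_isPullback (isPullback_incl φ hL j).flip inferInstance

theorem bijective_toRing (j : Chart L) : Function.Bijective (toRing φ hL j) := by
  have hr : proj φ hL ⁻¹ᵁ j.U ≤ (incl φ hL j).opensRange := by
    have h := (glueData φ hL).toBase_preimage_eq_opensRange_ι ⟨j⟩
    rw [show ((cov hL).f ⟨j⟩).opensRange = j.U from Scheme.Opens.opensRange_ι _] at h
    exact h.le
  haveI := (incl φ hL j).isIso_app (proj φ hL ⁻¹ᵁ j.U) hr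
  haveI : IsIso ((incl φ hL j).appLE _ ⊤ (incl_preimage φ hL j).ge) := by
    rw [Scheme.Hom.appLE]
    haveI : IsIso ((Spec (ringAt φ j)).presheaf.map (homOfLE (incl_preimage φ hL j).ge).op) := by
      rw [show homOfLE (incl_preimage φ hL j).ge = eqToHom (incl_preimage φ hL j).symm from Subsingleton.elim _ _]
      infer_instance
    infer_instance
  exact ConcreteCategory.bijective_of_isIso ((incl φ hL j).appLE _ ⊤ (incl_preimage φ hL j).ge ≫
    (Scheme.ΓSpecIso (ringAt φ j)).hom)

theorem toRing_res {i j : Chart L} (h : i.U ≤ j.U) (s : Γ(cover φ hL, proj φ hL ⁻¹ᵁ j.U)) :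
    toRing φ hL i ((cover φ hL).presheaf.map (homOfLE ((proj φ hL).preimage_mono h)).op s) =
      (tr φ h).hom (toRing φ hL j s) := by
  have e : (cover φ hL).presheaf.map (homOfLE ((proj φ hL).preimage_mono h)).op ≫
      (incl φ hL i).appLE _ ⊤ (incl_preimage φ hL i).ge ≫ (Scheme.ΓSpecIso (ringAt φ i)).hom =
      ((incl φ hL j).appLE _ ⊤ (incl_preimage φ hL j).ge ≫ (Scheme.ΓSpecIso (ringAt φ j)).hom) ≫ tr φ h := by
    rw [Category.assoc, ← Scheme.ΓSpecIso_naturality, Scheme.Hom.appTop, Scheme.Hom.app_eq_appLE,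
      ← Category.assoc, Scheme.Hom.map_appLE, ← Category.assoc]
    refine congrArg (· ≫ (Scheme.ΓSpecIso (ringAt φ i)).hom) ?_
    erw [Scheme.Hom.appLE_comp_appLE]
    simp only [incl_comp φ hL h]
    rfl
  exact ConcreteCategory.congr_hom e s

theorem toRing_app (j : Chart L) (r : Γ(X, j.U)) :
    toRing φ hL j ((proj φ hL).app j.U r) = AdjoinRoot.of _ r := by
  have hle : (⊤ : (Spec (ringAt φ j)).Opens) ≤ (Spec.map (strAt φ j) ≫ j.affine.fromSpec) ⁻¹ᵁ j.U := by
    rw [Scheme.Hom.comp_preimage, j.affine.fromSpec_preimage_self, Scheme.Hom.preimage_top]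
  have h2 : (Spec.map (strAt φ j) ≫ j.affine.fromSpec).appLE j.U ⊤ hle =
      strAt φ j ≫ (Scheme.ΓSpecIso (ringAt φ j)).inv := by
    rw [Scheme.Hom.comp_appLE, j.affine.fromSpec_app_self, Category.assoc, Scheme.Hom.map_appLE,
      Scheme.ΓSpecIso_inv_naturality, Scheme.Hom.appTop, Scheme.Hom.app_eq_appLE]
    rfl
  have e : (proj φ hL).app j.U ≫ (incl φ hL j).appLE _ ⊤ (incl_preimage φ hL j).ge ≫
      (Scheme.ΓSpecIso (ringAt φ j)).hom = strAt φ j := by
    rw [← Category.assoc, Scheme.Hom.app_eq_appLE, Scheme.Hom.appLE_comp_appLE]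
    simp only [(incl_proj φ hL j).trans (toChart_ι φ j)]
    rw [h2, Category.assoc, Iso.inv_hom_id, Category.comp_id]
  exact ConcreteCategory.congr_hom e r

section unitSection

variable {φ} {hd' : 0 < d}

/-- The element trivialising the inverse image of the generator. -/
theorem exists_unit (hd : 0 < d) (j : Chart L) :
    ∃ u : Γ(cover φ hL, proj φ hL ⁻¹ᵁ j.U), IsUnit u ∧
      toRing φ hL j u = AdjoinRoot.of _ (bb φ j) * AdjoinRoot.root _ ^ (d - 1) := by
  obtain ⟨u, hu⟩ := (bijective_toRing φ hL j).2 (AdjoinRoot.of _ (bb φ j) * AdjoinRoot.root _ ^ (d - 1))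
  refine ⟨u, ?_, hu⟩
  have h : IsUnit (toRing φ hL j u) := by
    rw [hu]
    exact ((isUnit_bb φ j).map _).mul ((isUnit_root _ hd (bb_mul_cc φ j)).pow _)
  obtain ⟨v, hv⟩ := h.exists_right_inv
  obtain ⟨v', rfl⟩ := (bijective_toRing φ hL j).2 v
  exact IsUnit.of_mul_eq_one v' ((bijective_toRing φ hL j).1 (by rw [map_mul, hv, map_one]))

theorem unit_rel (hd : 0 < d) {i j : Chart L} (h : i.U ≤ j.U) {ui : Γ(cover φ hL, proj φ hL ⁻¹ᵁ i.U)}
    {uj : Γ(cover φ hL, proj φ hL ⁻¹ᵁ j.U)}
    (hi : toRing φ hL i ui = AdjoinRoot.of _ (bb φ i) * AdjoinRoot.root _ ^ (d - 1))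
    (hj : toRing φ hL j uj = AdjoinRoot.of _ (bb φ j) * AdjoinRoot.root _ ^ (d - 1)) :
    ui = (proj φ hL).app i.U (aa h) *
      (cover φ hL).presheaf.map (homOfLE ((proj φ hL).preimage_mono h)).op uj := by
  refine (bijective_toRing φ hL i).1 ?_
  rw [map_mul, toRing_app, toRing_res, hi, hj, map_mul, map_pow]
  change _ = _ * (change _ (cc_res φ h) _ * change _ (cc_res φ h) _ ^ (d - 1))
  rw [change_of, change_root, mul_pow, ← map_pow, ← mul_assoc, ← mul_assoc, ← map_mul, ← map_mul]
  congr 2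
  have hb : bb φ i = aa h ^ d * X.presheaf.map (homOfLE h).op (bb φ j) := by
    have e := congrArg (fun s => φ.hom.app _ (spow s d)) (aa_spec h)
    beta_reduce at e
    rw [spow_smul, Scheme.Modules.Hom.app_smul, ← spow_res, H11Tilde.app_map_apply] at e
    exact e
  rw [hb]
  obtain ⟨n, rfl⟩ := Nat.exists_eq_succ_of_ne_zero hd.ne'
  rw [Nat.succ_sub_one, pow_succ]
  ring

/-- The inverse image of `L` is trivial. -/
theorem pullback_trivial (hd : 0 < d) :
    Nonempty ((Scheme.Modules.pullback (proj φ hL)).obj L ≅ Coh.structureModule (cover φ hL)) := by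
  let π := proj φ hL
  choose u huu hu using exists_unit (φ := φ) hL hd
  obtain ⟨ψ, -⟩ := H11Ample.exists_iso_of_gen (P := (Scheme.Modules.pullback π).obj L)
    (Q := Coh.structureModule (cover φ hL)) (fun j : Chart L => π ⁻¹ᵁ j.U)
    (fun x => by obtain ⟨j, hj, -⟩ := exists_chart hL (π x) (O := ⊤) trivial; exact ⟨j, hj⟩)
    (fun j => OmegaSh.pullSect π L j.U j.gen) (fun j => IsGen.pullSect π j.isGen)
    (fun j => (show Γ(Coh.structureModule (cover φ hL), π ⁻¹ᵁ j.U) from u j))
    (fun j => isGen_unit (huu j)) fun i j c hc => by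
      obtain ⟨a, ha⟩ := H11Ample.transition (ei := i.gen) j.isGen
      have hca : c = π.app (i.U ⊓ j.U) a := by
        have h0 := congrArg (OmegaSh.pullSect π L (i.U ⊓ j.U)) ha
        rw [OmegaSh.pullSect_smul, pullSect_res, pullSect_res] at h0
        have hg := (IsGen.pullSect π j.isGen).bijective (π.preimage_mono (inf_le_right : i.U ⊓ j.U ≤ j.U))
        exact hg.1 (hc.symm.trans h0)
      subst hca
      change (cover φ hL).presheaf.map (homOfLE (π.preimage_mono (inf_le_left : i.U ⊓ j.U ≤ i.U))).op (u i) =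
        π.app (i.U ⊓ j.U) a *
          (cover φ hL).presheaf.map (homOfLE (π.preimage_mono (inf_le_right : i.U ⊓ j.U ≤ j.U))).op (u j)
      refine TopCat.Sheaf.eq_of_locally_eq' ⟨(cover φ hL).presheaf, (cover φ hL).sheaf.property⟩
        (fun k : {k : ULift.{u} (Chart L) // k.down.U ≤ i.U ⊓ j.U} => π ⁻¹ᵁ k.1.down.U) _
        (fun k => homOfLE (π.preimage_mono k.2)) (fun z hz => ?_) _ _ fun k => ?_
      · obtain ⟨k, hk, hle⟩ := exists_chart hL (π z) (O := i.U ⊓ j.U) hz
        exact Opens.mem_iSup.2 ⟨⟨⟨k⟩, hle⟩, hk⟩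
      · obtain ⟨⟨k⟩, hk⟩ := k
        have hki : k.U ≤ i.U := hk.trans inf_le_left
        have hkj : k.U ≤ j.U := hk.trans inf_le_right
        change (cover φ hL).presheaf.map (homOfLE (π.preimage_mono hk)).op _ =
          (cover φ hL).presheaf.map (homOfLE (π.preimage_mono hk)).op _
        rw [map_mul, res_res, res_res, ← nat π hk]
        refine ((isUnit_aa hki).map (π.app k.U).hom).mul_left_cancel ?_
        rw [← mul_assoc, ← map_mul]
        have ea : aa hkj = aa hki * X.presheaf.map (homOfLE hk).op a := by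
          refine (coeff_unique hkj ?_).symm
          have e := congrArg (L.presheaf.map (homOfLE hk).op) ha
          rw [Scheme.Modules.map_smul, H10Coh.mres_mres, H10Coh.mres_mres] at e
          rw [mul_smul, ← e]
          exact aa_spec hki
        rw [← ea]
        exact (unit_rel hL hd hki (hu k) (hu i)).symm.trans (unit_rel hL hd hkj (hu k) (hu j))
  exact ⟨ψ⟩

end unitSection

end Groth.Agent.H12Pic.CyclicCover
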